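import Mathlib.RingTheory.Trace.Basic
import Mathlib.RingTheory.TensorProduct.Basic
import Mathlib.RingTheory.TensorProduct.Free
import Mathlib.FieldTheory.Galois.Basic
import Mathlib.LinearAlgebra.TensorProduct.Tower

/-!
# Galois descent of vector spaces along a finite Galois extension
-/

universe u v w x y

open scoped TensorProduct

namespace Groth.Agent.Lib.GalDescent.Basic

variable {k : Type u} {K : Type v} [Field k] [Field K] [Algebra k K]

open scoped Classical in
theorem exists_dual [FiniteDimensional k K] :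
    ∃ (n : ℕ) (b c : Fin n → K), ∀ σ : K ≃ₐ[k] K,
      ∑ i, c i * σ (b i) = if σ = 1 then 1 else 0 := by
  let B := Module.finBasis k K
  let v : Fin (Module.finrank k K) → ((K ≃ₐ[k] K) → K) := fun i σ => σ (B i)
  have key : Submodule.span K (Set.range v) = ⊤ := by
    by_contra hne
    obtain ⟨f, hf, hle⟩ := Submodule.exists_le_ker_of_lt_top _ (lt_top_iff_ne_top.mpr hne)
    let d : (K ≃ₐ[k] K) → K := fun σ => f (fun τ => if σ = τ then 1 else 0)
    have fexp : ∀ x : (K ≃ₐ[k] K) → K, f x = ∑ σ, x σ * d σ := by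
      intro x
      rw [LinearMap.pi_apply_eq_sum_univ f x]
      rfl
    have hd : ∀ a : K, ∑ σ : K ≃ₐ[k] K, d σ * σ a = 0 := by
      intro a
      have hb : ∀ i, ∑ σ : K ≃ₐ[k] K, d σ * σ (B i) = 0 := fun i => by
        have h0 : f (v i) = 0 := hle (Submodule.subset_span ⟨i, rfl⟩)
        simpa [fexp, v, mul_comm] using h0
      have : (∑ σ : K ≃ₐ[k] K, d σ • (σ.toAlgHom.toLinearMap : K →ₗ[k] K)) = 0 :=
        B.ext fun i => by simpa [smul_eq_mul] using hb i
      simpa [smul_eq_mul] using congrArg (fun g : K →ₗ[k] K => g a) this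
    have li := (linearIndependent_toLinearMap k K K).comp
      (fun σ : K ≃ₐ[k] K => (σ : K →ₐ[k] K)) (fun σ τ e => AlgEquiv.ext fun z => congrArg (fun g : K →ₐ[k] K => g z) e)
    have h0 : ∀ σ, d σ = 0 := Fintype.linearIndependent_iff.mp li d
      (LinearMap.ext fun a => by simpa [smul_eq_mul] using hd a)
    exact hf (LinearMap.ext fun x => by simp [fexp, h0])
  have h : (fun σ : K ≃ₐ[k] K => if σ = 1 then (1 : K) else 0) ∈
      Submodule.span K (Set.range v) := by rw [key]; exact Submodule.mem_top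
  obtain ⟨c, hc⟩ := (Submodule.mem_span_range_iff_exists_fun K).mp h
  refine ⟨_, B, c, fun σ => ?_⟩
  have := congrFun hc σ
  simpa [v, Finset.sum_apply] using this

variable {M : Type w} [AddCommGroup M] [Module K M]

/-- A semilinear action of the automorphism group, given as a plain map. -/
structure IsSemilinear (ρ : (K ≃ₐ[k] K) → M → M) : Prop where
  map_add : ∀ σ x y, ρ σ (x + y) = ρ σ x + ρ σ y
  map_smul : ∀ (σ : K ≃ₐ[k] K) (c : K) x, ρ σ (c • x) = σ c • ρ σ x
  one : ∀ x, ρ 1 x = x
  mul : ∀ σ τ x, ρ (σ * τ) x = ρ σ (ρ τ x)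

namespace IsSemilinear

variable {ρ : (K ≃ₐ[k] K) → M → M} (h : IsSemilinear ρ)
include h

theorem map_zero (σ : K ≃ₐ[k] K) : ρ σ 0 = 0 := by
  have := h.map_smul σ 0 0
  simpa using this

theorem map_sum (σ : K ≃ₐ[k] K) {ι : Type*} (s : Finset ι) (f : ι → M) :
    ρ σ (∑ i ∈ s, f i) = ∑ i ∈ s, ρ σ (f i) := by
  classical
  induction s using Finset.induction_on with
  | empty => simp [h.map_zero]
  | insert a s ha ih => simp [Finset.sum_insert ha, h.map_add, ih]

theorem trace_fixed [FiniteDimensional k K] (m : M) (τ : K ≃ₐ[k] K) :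
    ρ τ (∑ σ, ρ σ m) = ∑ σ, ρ σ m := by
  rw [h.map_sum]
  simp only [← h.mul]
  exact Equiv.sum_comp (Equiv.mulLeft τ) (fun σ => ρ σ m)

variable [Module k M] [IsScalarTower k K M]
variable {W : Type x} [AddCommGroup W] [Module k W]

/-- Descent: if `ι` identifies `W` with the fixed vectors then `K ⊗ W → M` is bijective. -/
theorem bijective_lift [FiniteDimensional k K] [IsGalois k K] (ι : W →ₗ[k] M)
    (hι : Function.Injective ι) (hW : ∀ m, m ∈ LinearMap.range ι ↔ ∀ σ, ρ σ m = m) :
    Function.Bijective (ι.liftBaseChange K) := by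
  obtain ⟨n, b, c, hbc⟩ := exists_dual (k := k) (K := K)
  have sum_key : ∀ m : M, ∑ i, c i • ∑ σ, ρ σ (b i • m) = m := by
    intro m
    simp only [Finset.smul_sum, h.map_smul, smul_smul]
    rw [Finset.sum_comm]
    simp only [← Finset.sum_smul, hbc, ite_smul, one_smul, zero_smul]
    rw [Finset.sum_eq_single (1 : K ≃ₐ[k] K) (fun σ _ hσ => if_neg hσ)
      (fun hh => absurd (Finset.mem_univ _) hh), if_pos rfl, h.one]
  have fix : ∀ m : M, (∑ σ, ρ σ m) ∈ LinearMap.range ι :=
    fun m => (hW _).mpr (h.trace_fixed m)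
  choose tr htr using fix
  let inv : M → K ⊗[k] W := fun m => ∑ i, c i ⊗ₜ[k] tr (b i • m)
  have right : ∀ m, ι.liftBaseChange K (inv m) = m := by
    intro m
    simp only [inv, _root_.map_sum, LinearMap.liftBaseChange_tmul, htr]
    exact sum_key m
  have inv_add : ∀ m m', inv (m + m') = inv m + inv m' := by
    intro m m'
    have : ∀ a a' : M, tr (a + a') = tr a + tr a' := by
      intro a a'
      apply hι
      simp only [_root_.map_add, htr, h.map_add, Finset.sum_add_distrib]
    simp [inv, this, TensorProduct.tmul_add, Finset.sum_add_distrib]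
  have left : ∀ z, inv (ι.liftBaseChange K z) = z := by
    intro z
    induction z using TensorProduct.induction_on with
    | zero =>
      have := inv_add 0 0
      simpa using this
    | add z z' hz hz' => rw [_root_.map_add, inv_add, hz, hz']
    | tmul a w =>
      have fw : ∀ σ, ρ σ (ι w) = ι w := (hW _).mp ⟨w, rfl⟩
      have e : ∀ i, tr (b i • a • ι w) = Algebra.trace k K (b i * a) • w := by
        intro i
        apply hι
        rw [htr, _root_.map_smul, ← algebraMap_smul K (Algebra.trace k K (b i * a)),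
          trace_eq_sum_automorphisms, Finset.sum_smul]
        simp only [smul_smul, h.map_smul, fw]
      rw [LinearMap.liftBaseChange_tmul]
      simp only [inv, e, TensorProduct.tmul_smul, TensorProduct.smul_tmul']
      rw [← TensorProduct.sum_tmul]
      congr 1
      simp only [Algebra.smul_def, trace_eq_sum_automorphisms, map_mul, Finset.sum_mul]
      rw [Finset.sum_comm]
      calc _ = ∑ σ : K ≃ₐ[k] K, σ a * ∑ i, c i * σ (b i) := by
            refine Finset.sum_congr rfl fun σ _ => ?_
            rw [Finset.mul_sum]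
            exact Finset.sum_congr rfl fun i _ => by ring
        _ = a := by
            rw [Finset.sum_eq_single (1 : K ≃ₐ[k] K) (fun σ _ hσ => by rw [hbc, if_neg hσ, mul_zero])
              (fun hh => absurd (Finset.mem_univ _) hh), hbc, if_pos rfl, mul_one]
            rfl
  exact ⟨Function.LeftInverse.injective left, Function.RightInverse.surjective right⟩

/-- The descent isomorphism. -/
noncomputable def equiv [FiniteDimensional k K] [IsGalois k K] (ι : W →ₗ[k] M)
    (hι : Function.Injective ι) (hW : ∀ m, m ∈ LinearMap.range ι ↔ ∀ σ, ρ σ m = m) :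
    K ⊗[k] W ≃ₗ[K] M :=
  LinearEquiv.ofBijective (ι.liftBaseChange K) (h.bijective_lift ι hι hW)

@[simp]
theorem equiv_tmul [FiniteDimensional k K] [IsGalois k K] (ι : W →ₗ[k] M)
    (hι : Function.Injective ι) (hW : ∀ m, m ∈ LinearMap.range ι ↔ ∀ σ, ρ σ m = m) (c : K) (w : W) :
    h.equiv ι hι hW (c ⊗ₜ[k] w) = c • ι w :=
  rfl

/-- The `k`-subspace of fixed vectors. -/
def fixed : Submodule k M where
  carrier := {m | ∀ σ, ρ σ m = m}
  zero_mem' := fun σ => h.map_zero σ
  add_mem' := fun {a b} ha hb σ => by rw [h.map_add, ha σ, hb σ]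
  smul_mem' := fun r m hm σ => by
    rw [← algebraMap_smul K r m, h.map_smul, AlgEquiv.commutes, hm σ]

theorem mem_fixed {m : M} : m ∈ h.fixed ↔ ∀ σ, ρ σ m = m := Iff.rfl

theorem range_subtype_iff (m : M) :
    m ∈ LinearMap.range h.fixed.subtype ↔ ∀ σ, ρ σ m = m := by
  rw [Submodule.range_subtype]; rfl

/-- The descent isomorphism for the fixed subspace. -/
noncomputable def fixedEquiv [FiniteDimensional k K] [IsGalois k K] : K ⊗[k] h.fixed ≃ₗ[K] M :=
  h.equiv h.fixed.subtype Subtype.val_injective h.range_subtype_iff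

@[simp]
theorem fixedEquiv_tmul [FiniteDimensional k K] [IsGalois k K] (c : K) (w : h.fixed) :
    h.fixedEquiv (c ⊗ₜ[k] w) = c • (w : M) :=
  rfl

end IsSemilinear

section Tensor

variable {W : Type x} [AddCommGroup W] [Module k W] {W' : Type y} [AddCommGroup W'] [Module k W']

theorem smul_tmul_eq (σ : K ≃ₐ[k] K) (c : K) (w : W) : σ • (c ⊗ₜ[k] w) = σ c ⊗ₜ[k] w :=
  TensorProduct.smul_tmul' σ c w

theorem smul_smul_tensor (σ : K ≃ₐ[k] K) (c : K) (z : K ⊗[k] W) :
    σ • (c • z) = σ c • σ • z := by
  induction z using TensorProduct.induction_on with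
  | zero => simp
  | tmul a v => simp [TensorProduct.smul_tmul', smul_eq_mul]
  | add z z' hz hz' => simp [smul_add, hz, hz']

theorem isSemilinear_tensor :
    IsSemilinear (fun (σ : K ≃ₐ[k] K) (z : K ⊗[k] W) => σ • z) :=
  ⟨fun σ x y => smul_add σ x y, smul_smul_tensor, fun x => one_smul _ x,
    fun σ τ x => mul_smul σ τ x⟩

/-- The fixed vectors of `K ⊗ W` are `1 ⊗ W`. -/
theorem fixed_iff_exists [FiniteDimensional k K] [IsGalois k K] (z : K ⊗[k] W) :
    (∀ σ : K ≃ₐ[k] K, σ • z = z) ↔ ∃ w : W, (1 : K) ⊗ₜ[k] w = z := by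
  refine ⟨fun hz => ?_, ?_⟩
  · obtain ⟨y, hy⟩ := Algebra.trace_surjective k K 1
    let L : K ⊗[k] W →ₗ[k] W :=
      TensorProduct.lift (LinearMap.mk₂ k (fun (a : K) (w : W) => Algebra.trace k K (y * a) • w)
        (fun a a' w => by simp [mul_add, add_smul]) (fun r a w => by simp [smul_smul])
        (fun a w w' => by simp) (fun r a w => smul_comm _ r w))
    refine ⟨L z, ?_⟩
    have h1 : ∀ z : K ⊗[k] W, (1 : K) ⊗ₜ[k] L z = ∑ σ : K ≃ₐ[k] K, σ y • σ • z := by
      intro z
      induction z using TensorProduct.induction_on with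
      | zero => simp
      | tmul a v =>
        simp only [L, TensorProduct.lift.tmul, LinearMap.mk₂_apply, TensorProduct.tmul_smul,
          TensorProduct.smul_tmul', Algebra.smul_def, trace_eq_sum_automorphisms, map_mul,
          mul_one, AlgEquiv.smul_def, ← TensorProduct.sum_tmul]
        congr 1
      | add z z' hz hz' => simp [TensorProduct.tmul_add, hz, hz', Finset.sum_add_distrib]
    rw [h1]
    simp only [hz, ← Finset.sum_smul, ← trace_eq_sum_automorphisms, hy, map_one, one_smul]
  · rintro ⟨w, rfl⟩ σ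
    rw [smul_tmul_eq, map_one]

theorem one_tmul_injective : Function.Injective (fun w : W => (1 : K) ⊗ₜ[k] w) := by
  obtain ⟨π, hπ⟩ := (Algebra.linearMap k K).exists_leftInverse_of_injective
    (LinearMap.ker_eq_bot.mpr (FaithfulSMul.algebraMap_injective k K))
  have h1 : π (1 : K) = 1 := by
    simpa using congrArg (fun g : k →ₗ[k] k => g 1) hπ
  intro w w' e
  simpa [h1] using congrArg (fun z => TensorProduct.lid k W (TensorProduct.map π LinearMap.id z)) e

/-- A Galois-equivariant isomorphism of base changes descends. -/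
theorem exists_descend_equiv [FiniteDimensional k K] [IsGalois k K]
    (h : K ⊗[k] W ≃ₗ[K] K ⊗[k] W') (hh : ∀ (σ : K ≃ₐ[k] K) z, h (σ • z) = σ • h z) :
    ∃ e : W ≃ₗ[k] W', ∀ w, h ((1 : K) ⊗ₜ[k] w) = (1 : K) ⊗ₜ[k] e w := by
  have h1 : ∀ w : W, ∃ w' : W', (1 : K) ⊗ₜ[k] w' = h ((1 : K) ⊗ₜ[k] w) := fun w => by
    rw [← fixed_iff_exists]
    intro σ
    rw [← hh, smul_tmul_eq, map_one]
  choose f hf using h1
  have h2 : ∀ w' : W', ∃ w : W, (1 : K) ⊗ₜ[k] w = h.symm ((1 : K) ⊗ₜ[k] w') := fun w' => by
    rw [← fixed_iff_exists]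
    intro σ
    apply h.injective
    rw [hh, h.apply_symm_apply, smul_tmul_eq, map_one]
  choose g hg using h2
  refine ⟨{ toFun := f, invFun := g, map_add' := ?_, map_smul' := ?_, left_inv := ?_,
            right_inv := ?_ }, fun w => (hf w).symm⟩
  · intro a b
    apply one_tmul_injective (k := k) (K := K)
    simp [hf, TensorProduct.tmul_add]
  · intro r a
    apply one_tmul_injective (k := k) (K := K)
    simp only [hf, TensorProduct.tmul_smul, RingHom.id_apply]
    rw [← algebraMap_smul K r ((1 : K) ⊗ₜ[k] a), map_smul, algebraMap_smul]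
  · intro a
    apply one_tmul_injective (k := k) (K := K)
    simp [hf, hg]
  · intro a
    apply one_tmul_injective (k := k) (K := K)
    simp [hf, hg]

end Tensor

end Groth.Agent.Lib.GalDescent.Basic
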