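import Groth.Prelude.Def_GalTw2
import Groth.Agent.Lib.GalDescent.Basic
import Groth.Agent.Lib.FFDesc.Datum
import Mathlib.LinearAlgebra.Dimension.Constructions
import Mathlib.AlgebraicGeometry.Limits

/-!
# Galois descent of morphisms of schemes

For a finite Galois extension `K/k`, `Spec K ×ₖ Spec K` is covered by the graphs of the Galois
automorphisms; consequently a morphism out of `X_K` invariant under all `id × Spec σ` descends to `X`.
-/

set_option autoImplicit false
universe u
open CategoryTheory CategoryTheory.Limits AlgebraicGeometry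
open scoped TensorProduct

namespace Groth.Agent.Lib.GalDescent.SplitCover

variable {k : Type u} [Field k] (K : Type u) [Field K] [Algebra k K]

/-- The map `x ⊗ y ↦ (x σ(y))_σ`. -/
noncomputable def splitHom : K ⊗[k] K →ₐ[K] ((K ≃ₐ[k] K) → K) :=
  Algebra.TensorProduct.lift (Algebra.ofId K _)
    (AlgHom.pi (R := k) fun σ => σ.toAlgHom) (fun _ _ => Commute.all _ _)

theorem splitHom_tmul (x y : K) (σ : K ≃ₐ[k] K) : splitHom K (x ⊗ₜ[k] y) σ = x * σ y := rfl

theorem splitHom_bijective [FiniteDimensional k K] [IsGalois k K] : Function.Bijective (splitHom (k := k) K) := by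
  classical
  obtain ⟨n, b, c, hbc⟩ := Groth.Agent.Lib.GalDescent.Basic.exists_dual (k := k) (K := K)
  have hsurj : Function.Surjective (splitHom (k := k) K).toLinearMap := by
    intro f
    refine ⟨∑ τ : K ≃ₐ[k] K, f τ • ∑ i, c i ⊗ₜ[k] τ⁻¹ (b i), funext fun σ => ?_⟩
    have h1 : ∀ τ : K ≃ₐ[k] K,
        splitHom K (∑ i, c i ⊗ₜ[k] τ⁻¹ (b i)) σ = if σ = τ then 1 else 0 := fun τ => by
      simp only [map_sum, Finset.sum_apply, splitHom_tmul]
      refine (hbc (σ * τ⁻¹)).trans ?_
      simp only [mul_inv_eq_one]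
    change splitHom K (∑ τ, f τ • ∑ i, c i ⊗ₜ[k] τ⁻¹ (b i)) σ = f σ
    rw [map_sum, Finset.sum_apply]
    simp only [map_smul, Pi.smul_apply, h1, smul_eq_mul, mul_ite, mul_one, mul_zero,
      Finset.sum_ite_eq, Finset.mem_univ, if_true]
  refine ⟨?_, hsurj⟩
  have h : Module.finrank K (K ⊗[k] K) = Module.finrank K ((K ≃ₐ[k] K) → K) := by
    rw [Module.finrank_baseChange, Module.finrank_pi, ← Nat.card_eq_fintype_card,
      IsGalois.card_aut_eq_finrank]
  exact (LinearMap.injective_iff_surjective_of_finrank_eq_finrank h).2 hsurj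

theorem specMap_pt (σ : K ≃ₐ[k] K) :
    GalTw.specMap K σ ≫ (SGA7.pt (K := k) K).hom = (SGA7.pt (K := k) K).hom := GalTw.specMap_comp_pt σ

/-- The graph of `σ` in `Spec K ×ₖ Spec K`. -/
noncomputable def graph (σ : K ≃ₐ[k] K) :
    Spec (CommRingCat.of K) ⟶ pullback (SGA7.pt (K := k) K).hom (SGA7.pt (K := k) K).hom :=
  pullback.lift (𝟙 _) (GalTw.specMap K σ) ((Category.id_comp _).trans (specMap_pt K σ).symm)

/-- The coproduct of the graphs. -/
noncomputable def graphMap :
    (∐ fun _ : K ≃ₐ[k] K => Spec (CommRingCat.of K)) ⟶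
      pullback (SGA7.pt (K := k) K).hom (SGA7.pt (K := k) K).hom :=
  Sigma.desc (graph K)

instance isIso_graphMap [FiniteDimensional k K] [IsGalois k K] : IsIso (graphMap (k := k) K) := by
  let R := fun _ : K ≃ₐ[k] K => CommRingCat.of K
  let θ : CommRingCat.of (K ⊗[k] K) ⟶ CommRingCat.of (∀ i, R i) :=
    CommRingCat.ofHom (splitHom (k := k) K).toRingHom
  have hθ : IsIso θ := (RingEquiv.ofBijective _ (splitHom_bijective (k := k) K)).toCommRingCatIso.isIso_hom
  have key : graphMap (k := k) K = sigmaSpec R ≫ Spec.map θ ≫ (pullbackSpecIso k K K).inv := by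
    refine Sigma.hom_ext _ _ fun σ => ?_
    rw [graphMap, Sigma.ι_desc, ι_sigmaSpec_assoc, ← Spec.map_comp_assoc]
    apply pullback.hom_ext
    · rw [graph, pullback.lift_fst, Category.assoc]
      refine Eq.trans ?_ (congrArg (Spec.map _ ≫ ·) (pullbackSpecIso_inv_fst k K K).symm)
      rw [← Spec.map_comp, ← Spec.map_id]
      congr 1
      ext x
      change x = splitHom K (x ⊗ₜ[k] (1 : K)) σ
      rw [splitHom_tmul, map_one, mul_one]
    · rw [graph, pullback.lift_snd, Category.assoc]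
      refine Eq.trans ?_ (congrArg (Spec.map _ ≫ ·) (pullbackSpecIso_inv_snd k K K).symm)
      rw [← Spec.map_comp]
      change Spec.map (CommRingCat.ofHom (σ : K →+* K)) = _
      congr 1
      ext x
      change σ x = splitHom K ((1 : K) ⊗ₜ[k] x) σ
      rw [splitHom_tmul, one_mul]
  rw [key]
  infer_instance

/-- The open cover of `Spec K ×ₖ Spec K` by the graphs. -/
noncomputable def graphCover [FiniteDimensional k K] [IsGalois k K] :
    (pullback (SGA7.pt (K := k) K).hom (SGA7.pt (K := k) K).hom).OpenCover :=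
  (sigmaOpenCover fun _ : K ≃ₐ[k] K => Spec (CommRingCat.of K)).pushforwardIso (graphMap K)

variable [FiniteDimensional k K] [IsGalois k K]

/-- Any scheme with two `K`-structures inducing the same `k`-structure is covered by open pieces on which
the second is the Galois translate of the first. -/
theorem exists_galCover {T : Scheme.{u}} (x₀ x₁ : T ⟶ Spec (CommRingCat.of K))
    (h : x₀ ≫ (SGA7.pt (K := k) K).hom = x₁ ≫ (SGA7.pt (K := k) K).hom) :
    ∃ (𝒰 : Scheme.OpenCover.{u} T) (γ : 𝒰.I₀ → (K ≃ₐ[k] K)), ∀ i, 𝒰.f i ≫ x₁ = (𝒰.f i ≫ x₀) ≫ GalTw.specMap K (γ i) := by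
  let L := pullback.lift x₀ x₁ h
  let 𝒰 := (graphCover (k := k) K).pullback₁ L
  refine ⟨𝒰, fun i => i, fun i => ?_⟩
  have hg : (graphCover (k := k) K).f i = graph K i := Sigma.ι_desc _ _
  have hc : 𝒰.f i ≫ L = pullback.snd L ((graphCover (k := k) K).f i) ≫ graph K i := by
    rw [← hg]; exact pullback.condition
  have e0 : L ≫ pullback.fst _ _ = x₀ := pullback.lift_fst _ _ _
  have e1 : L ≫ pullback.snd _ _ = x₁ := pullback.lift_snd _ _ _
  have g0 : graph (k := k) K i ≫ pullback.fst _ _ = 𝟙 _ := pullback.lift_fst _ _ _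
  have g1 : graph (k := k) K i ≫ pullback.snd _ _ = GalTw.specMap K i := pullback.lift_snd _ _ _
  have h0 : 𝒰.f i ≫ x₀ = pullback.snd L ((graphCover (k := k) K).f i) :=
    ((congrArg (𝒰.f i ≫ ·) e0).symm.trans ((Category.assoc _ _ _).symm.trans
      ((congrArg (· ≫ pullback.fst _ _) hc).trans ((Category.assoc _ _ _).trans
        ((congrArg (pullback.snd L _ ≫ ·) g0).trans (Category.comp_id _))))))
  have h1 : 𝒰.f i ≫ x₁ = pullback.snd L ((graphCover (k := k) K).f i) ≫ GalTw.specMap K i :=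
    ((congrArg (𝒰.f i ≫ ·) e1).symm.trans ((Category.assoc _ _ _).symm.trans
      ((congrArg (· ≫ pullback.snd _ _) hc).trans ((Category.assoc _ _ _).trans
        (congrArg (pullback.snd L _ ≫ ·) g1)))))
  exact h1.trans (congrArg (· ≫ GalTw.specMap K i) h0).symm

/-- Two morphisms agree if they agree on every piece where the `K`-structures differ by a Galois element. -/
theorem galHom_ext {T Z : Scheme.{u}} (x₀ x₁ : T ⟶ Spec (CommRingCat.of K))
    (h : x₀ ≫ (SGA7.pt (K := k) K).hom = x₁ ≫ (SGA7.pt (K := k) K).hom) {f g : T ⟶ Z}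
    (hfg : ∀ {U : Scheme.{u}} (j : U ⟶ T) (σ : K ≃ₐ[k] K), j ≫ x₁ = (j ≫ x₀) ≫ GalTw.specMap K σ →
      j ≫ f = j ≫ g) : f = g := by
  obtain ⟨𝒰, γ, hγ⟩ := exists_galCover K x₀ x₁ h
  exact 𝒰.hom_ext _ _ fun i => hfg (𝒰.f i) (γ i) (hγ i)

omit [FiniteDimensional k K] [IsGalois k K] in
theorem fpqcCover_fst (X : Over (Spec (CommRingCat.of k))) :
    FFDesc.fpqcCover (pullback.fst X.hom (SGA7.pt (K := k) K).hom) := by
  let t := (SGA7.pt (K := k) K).hom
  have : Surjective t := ⟨fun y => ⟨IsLocalRing.closedPoint K, Subsingleton.elim (α := Spec (CommRingCat.of k)) _ _⟩⟩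
  have : Flat t := inferInstance
  have : IsAffineHom t := inferInstanceAs (IsAffineHom (Spec.map _))
  exact FFDesc.fpqcCover_of_quasiCompact _

/-- **Galois descent for morphisms.** -/
theorem exists_desc (X : Over (Spec (CommRingCat.of k))) {Z : Scheme.{u}} (h : (GalTw.bcK K X).left ⟶ Z)
    (hinv : ∀ σ, GalTw.galMap K σ X ≫ h = h) :
    ∃ f : X.left ⟶ Z, pullback.fst X.hom (SGA7.pt (K := k) K).hom ≫ f = h := by
  let p := pullback.fst X.hom (SGA7.pt (K := k) K).hom
  let q := pullback.snd X.hom (SGA7.pt (K := k) K).hom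
  have := (fpqcCover_fst K X).effectiveEpi
  refine ⟨EffectiveEpi.desc p h (fun {T} a b e => ?_), EffectiveEpi.fac p h _⟩
  have hab : (a ≫ q) ≫ (SGA7.pt (K := k) K).hom = (b ≫ q) ≫ (SGA7.pt (K := k) K).hom := by
    rw [Category.assoc, Category.assoc, ← pullback.condition, reassoc_of% e]
  refine galHom_ext K (a ≫ q) (b ≫ q) hab fun j σ hj => ?_
  have : j ≫ b = (j ≫ a) ≫ GalTw.galMap K σ X := by
    apply pullback.hom_ext
    · rw [Category.assoc, Category.assoc, GalTw.galMap_fst, ← Category.assoc]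
      exact (congrArg (j ≫ ·) e).symm.trans (Category.assoc _ _ _).symm
    · rw [Category.assoc, Category.assoc, GalTw.galMap_snd]
      simpa only [Category.assoc] using hj
  rw [reassoc_of% this, hinv]

omit [FiniteDimensional k K] [IsGalois k K] in
theorem hom_ext (X : Over (Spec (CommRingCat.of k))) {Z : Scheme.{u}} {f g : X.left ⟶ Z}
    (h : pullback.fst X.hom (SGA7.pt (K := k) K).hom ≫ f = pullback.fst X.hom (SGA7.pt (K := k) K).hom ≫ g) :
    f = g := by
  have := (fpqcCover_fst K X).effectiveEpi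
  exact (cancel_epi (pullback.fst X.hom (SGA7.pt (K := k) K).hom)).1 h

end Groth.Agent.Lib.GalDescent.SplitCover
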