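import Groth.Agent.Lib.GalDescent.SplitCover
import Groth.Agent.Lib.FFDesc.Effective

/-!
# The descent datum of a Galois cocycle of automorphisms
-/

set_option autoImplicit false
universe u
open CategoryTheory CategoryTheory.Limits AlgebraicGeometry

namespace Groth.Agent.Lib.GalDescent.TwistDatum

variable {k : Type u} [Field k] (K : Type u) [Field K] [Algebra k K]

/-- Two Galois translates of a point of a nonempty scheme are equal only for the same Galois element. -/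
theorem comp_eq_of_translates {U Z : Scheme.{u}} (y : U ⟶ Spec (CommRingCat.of K)) (σ τ : K ≃ₐ[k] K)
    (h : y ≫ GalTw.specMap K σ = y ≫ GalTw.specMap K τ) (f : (K ≃ₐ[k] K) → (U ⟶ Z)) : f σ = f τ := by
  rcases isEmpty_or_nonempty U with hU | ⟨⟨z⟩⟩
  · exact isInitialOfIsEmpty.hom_ext _ _
  · suffices σ = τ by rw [this]
    obtain ⟨ψ, hψ⟩ := Spec.map_surjective (U.fromSpecResidueField z ≫ y)
    have e := congrArg (U.fromSpecResidueField z ≫ ·) h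
    simp only [← Category.assoc, ← hψ] at e
    change Spec.map ψ ≫ Spec.map _ = Spec.map ψ ≫ Spec.map _ at e
    rw [← Spec.map_comp, ← Spec.map_comp] at e
    exact AlgEquiv.ext fun x => ψ.hom.injective congr($(Spec.map_injective e).hom x)

variable [FiniteDimensional k K] [IsGalois k K]
variable {V : Scheme.{u}} (π : V ⟶ Spec (CommRingCat.of K)) (θ : (K ≃ₐ[k] K) → (V ⟶ V))
  (hθπ : ∀ σ, θ σ ≫ π = π ≫ GalTw.specMap K σ)

/-- `w` is the transport of `v` from `x₀` to `x₁`. -/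
def IsTr {T : Scheme.{u}} (x₀ x₁ : T ⟶ Spec (CommRingCat.of K)) (v w : T ⟶ V) : Prop :=
  ∀ {U : Scheme.{u}} (j : U ⟶ T) (σ : K ≃ₐ[k] K), j ≫ x₁ = (j ≫ x₀) ≫ GalTw.specMap K σ → j ≫ w = j ≫ v ≫ θ σ

theorem exists_isTr {T : Scheme.{u}} (x₀ x₁ : T ⟶ Spec (CommRingCat.of K))
    (h : x₀ ≫ (SGA7.pt (K := k) K).hom = x₁ ≫ (SGA7.pt (K := k) K).hom) (v : T ⟶ V) :
    ∃ w, IsTr K θ x₀ x₁ v w := by
  obtain ⟨𝒰, γ, hγ⟩ := SplitCover.exists_galCover K x₀ x₁ h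
  let g := fun i => 𝒰.f i ≫ v ≫ θ (γ i)
  have hg : ∀ i i', pullback.fst (𝒰.f i) (𝒰.f i') ≫ g i = pullback.snd _ _ ≫ g i' := fun i i' => by
    simp only [g]
    rw [← pullback.condition_assoc]
    refine comp_eq_of_translates K ((pullback.fst (𝒰.f i) (𝒰.f i') ≫ 𝒰.f i) ≫ x₀) (γ i) (γ i') ?_
      (fun σ => pullback.fst (𝒰.f i) (𝒰.f i') ≫ 𝒰.f i ≫ v ≫ θ σ)
    have h1 := congrArg (pullback.fst (𝒰.f i) (𝒰.f i') ≫ ·) (hγ i)
    have h2 := congrArg (pullback.snd (𝒰.f i) (𝒰.f i') ≫ ·) (hγ i')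
    simp only [Category.assoc] at h1 h2 ⊢
    simp only [← pullback.condition_assoc] at h2
    rw [← h1, ← h2]
  refine ⟨Scheme.Cover.glueMorphisms 𝒰 g hg, fun {U} j σ hj => ?_⟩
  let 𝒲 := 𝒰.pullback₁ j
  refine Scheme.Cover.hom_ext 𝒲 _ _ fun i => ?_
  change pullback.fst j (𝒰.f i) ≫ _ = pullback.fst j (𝒰.f i) ≫ _
  rw [pullback.condition_assoc]
  refine (congrArg (pullback.snd j (𝒰.f i) ≫ ·) (Scheme.Cover.ι_glueMorphisms 𝒰 g hg i)).trans ?_
  simp only [g]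
  rw [← pullback.condition_assoc]
  refine comp_eq_of_translates K (pullback.fst j (𝒰.f i) ≫ j ≫ x₀) (γ i) σ ?_
    (fun τ => pullback.fst j (𝒰.f i) ≫ j ≫ v ≫ θ τ)
  have h1 := congrArg (pullback.snd j (𝒰.f i) ≫ ·) (hγ i)
  have h2 := congrArg (pullback.fst j (𝒰.f i) ≫ ·) hj
  simp only [Category.assoc] at h1 h2 ⊢
  simp only [← pullback.condition_assoc] at h1
  rw [← h1, ← h2]

theorem isTr_unique {T : Scheme.{u}} {x₀ x₁ : T ⟶ Spec (CommRingCat.of K)}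
    (h : x₀ ≫ (SGA7.pt (K := k) K).hom = x₁ ≫ (SGA7.pt (K := k) K).hom) {v w w' : T ⟶ V}
    (hw : IsTr K θ x₀ x₁ v w) (hw' : IsTr K θ x₀ x₁ v w') : w = w' :=
  SplitCover.galHom_ext K x₀ x₁ h fun j σ hj => (hw j σ hj).trans (hw' j σ hj).symm

include hθπ in
theorem isTr_hom {T : Scheme.{u}} {x₀ x₁ : T ⟶ Spec (CommRingCat.of K)}
    (h : x₀ ≫ (SGA7.pt (K := k) K).hom = x₁ ≫ (SGA7.pt (K := k) K).hom) {v w : T ⟶ V}
    (hw : IsTr K θ x₀ x₁ v w) (hv : v ≫ π = x₀) : w ≫ π = x₁ :=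
  SplitCover.galHom_ext K x₀ x₁ h fun j σ hj => by
    rw [← Category.assoc, hw j σ hj, Category.assoc, Category.assoc, hθπ, reassoc_of% hv, hj, Category.assoc]

variable (θ₁ : θ 1 = 𝟙 V) (θmul : ∀ σ τ, θ σ ≫ θ τ = θ (σ * τ))

omit [FiniteDimensional k K] [IsGalois k K] in
include θ₁ in
theorem isTr_self {T : Scheme.{u}} (x : T ⟶ Spec (CommRingCat.of K)) (v : T ⟶ V) : IsTr K θ x x v v := by
  intro U j σ hj
  have := comp_eq_of_translates K (j ≫ x) σ 1 (by rw [← hj, GalTw.specMap_one]; exact (Category.comp_id _).symm)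
    (fun τ => j ≫ v ≫ θ τ)
  rw [this, θ₁, Category.comp_id]

include θmul in
theorem isTr_comp {T : Scheme.{u}} {x₀ x₁ x₂ : T ⟶ Spec (CommRingCat.of K)}
    (h₀₁ : x₀ ≫ (SGA7.pt (K := k) K).hom = x₁ ≫ (SGA7.pt (K := k) K).hom) {v w w' : T ⟶ V}
    (hw : IsTr K θ x₀ x₁ v w) (hw' : IsTr K θ x₁ x₂ w w') : IsTr K θ x₀ x₂ v w' := by
  intro U j σ hj
  refine SplitCover.galHom_ext K (j ≫ x₀) (j ≫ x₁) (by rw [Category.assoc, Category.assoc, h₀₁]) fun l τ hl => ?_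
  have hl' : (l ≫ j) ≫ x₁ = ((l ≫ j) ≫ x₀) ≫ GalTw.specMap K τ := by simpa only [Category.assoc] using hl
  have h2 : (l ≫ j) ≫ x₂ = ((l ≫ j) ≫ x₁) ≫ GalTw.specMap K (τ⁻¹ * σ) := by
    rw [hl']
    simp only [Category.assoc, ← GalTw.specMap_mul, mul_inv_cancel_left]
    simpa only [Category.assoc] using congrArg (l ≫ ·) hj
  rw [← Category.assoc, hw' (l ≫ j) _ h2, ← Category.assoc (l ≫ j), hw (l ≫ j) τ hl']
  simp only [Category.assoc, θmul, mul_inv_cancel_left]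

/-- The transported point. -/
noncomputable def trMap {T : Scheme.{u}} (x₀ x₁ : T ⟶ Spec (CommRingCat.of K))
    (h : x₀ ≫ (SGA7.pt (K := k) K).hom = x₁ ≫ (SGA7.pt (K := k) K).hom)
    (v : Desc.Lifts (Over.mk π) x₀) : Desc.Lifts (Over.mk π) x₁ :=
  ⟨(exists_isTr K θ x₀ x₁ h v.1).choose, isTr_hom K π θ hθπ h (exists_isTr K θ x₀ x₁ h v.1).choose_spec v.2⟩

theorem trMap_comp {T : Scheme.{u}} (x₀ x₁ x₂ : T ⟶ Spec (CommRingCat.of K))
    (θmul : ∀ σ τ, θ σ ≫ θ τ = θ (σ * τ))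
    (h₀₁ : x₀ ≫ (SGA7.pt (K := k) K).hom = x₁ ≫ (SGA7.pt (K := k) K).hom)
    (h₁₂ : x₁ ≫ (SGA7.pt (K := k) K).hom = x₂ ≫ (SGA7.pt (K := k) K).hom) (v : Desc.Lifts (Over.mk π) x₀) :
    trMap K π θ hθπ x₁ x₂ h₁₂ (trMap K π θ hθπ x₀ x₁ h₀₁ v) = trMap K π θ hθπ x₀ x₂ (h₀₁.trans h₁₂) v :=
  Subtype.ext (isTr_unique K θ (h₀₁.trans h₁₂)
    (isTr_comp K θ θmul h₀₁ (exists_isTr K θ x₀ x₁ h₀₁ v.1).choose_spec
      (exists_isTr K θ x₁ x₂ h₁₂ _).choose_spec) (exists_isTr K θ x₀ x₂ (h₀₁.trans h₁₂) v.1).choose_spec)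

theorem trMap_self {T : Scheme.{u}} (x : T ⟶ Spec (CommRingCat.of K)) (θ₁ : θ 1 = 𝟙 V) (h)
    (v : Desc.Lifts (Over.mk π) x) : trMap K π θ hθπ x x h v = v :=
  Subtype.ext (isTr_unique K θ h (exists_isTr K θ x x h v.1).choose_spec (isTr_self K θ θ₁ x v.1))

/-- The descent datum. -/
noncomputable def twistDatum (θ₁ : θ 1 = 𝟙 V) (θmul : ∀ σ τ, θ σ ≫ θ τ = θ (σ * τ)) :
    Desc.SchDD (SGA7.pt (K := k) K).hom where
  obj := Over.mk π
  φ T x₀ x₁ h :=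
    { toFun := trMap K π θ hθπ x₀ x₁ h
      invFun := trMap K π θ hθπ x₁ x₀ h.symm
      left_inv := fun v => (trMap_comp K π θ hθπ _ _ _ θmul _ _ v).trans (trMap_self K π θ hθπ _ θ₁ _ v)
      right_inv := fun v => (trMap_comp K π θ hθπ _ _ _ θmul _ _ v).trans (trMap_self K π θ hθπ _ θ₁ _ v) }
  φ_natural T T' g x₀ x₁ h h' v v' e :=
    isTr_unique K θ h' (exists_isTr K θ _ _ h' v'.1).choose_spec (fun j σ hj => by
      have key := (exists_isTr K θ x₀ x₁ h v.1).choose_spec (j ≫ g) σ (by simpa only [Category.assoc] using hj)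
      rw [e]
      refine ((Category.assoc _ _ _).symm.trans key).trans ?_
      simp only [Category.assoc])
  φ_self T x v := trMap_self K π θ hθπ x θ₁ rfl v
  φ_comp T x₀ x₁ x₂ h₀₁ h₁₂ v := trMap_comp K π θ hθπ x₀ x₁ x₂ θmul h₀₁ h₁₂ v

theorem twistDatum_spec (θ₁ : θ 1 = 𝟙 V) (θmul : ∀ σ τ, θ σ ≫ θ τ = θ (σ * τ)) {T : Scheme.{u}}
    (x₀ x₁ : T ⟶ Spec (CommRingCat.of K)) (h : x₀ ≫ (SGA7.pt (K := k) K).hom = x₁ ≫ (SGA7.pt (K := k) K).hom)
    (v : Desc.Lifts (twistDatum K π θ hθπ θ₁ θmul).obj x₀) :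
    IsTr K θ x₀ x₁ v.1 ((twistDatum K π θ hθπ θ₁ θmul).φ x₀ x₁ h v).1 :=
  (exists_isTr K θ x₀ x₁ h v.1).choose_spec

/-- The quotient map of a descended twist is invariant. -/
theorem comp_of_isDescended (θ₁ : θ 1 = 𝟙 V) (θmul : ∀ σ τ, θ σ ≫ θ τ = θ (σ * τ))
    (U : Over (Spec (CommRingCat.of k))) (q : V ⟶ U.left)
    (hq : FFDesc.IsDescended (twistDatum K π θ hθπ θ₁ θmul) U q) (σ : K ≃ₐ[k] K) : θ σ ≫ q = q := by
  let D := twistDatum K π θ hθπ θ₁ θmul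
  have hw : π ≫ (SGA7.pt (K := k) K).hom = (π ≫ GalTw.specMap K σ) ≫ (SGA7.pt (K := k) K).hom := by
    rw [Category.assoc, GalTw.specMap_comp_pt]
  have h1 := twistDatum_spec K π θ hθπ θ₁ θmul π (π ≫ GalTw.specMap K σ) hw ⟨𝟙 _, Category.id_comp _⟩ (𝟙 _) σ
    (by rw [Category.id_comp, Category.id_comp])
  rw [Category.id_comp, Category.id_comp] at h1
  have h2 : θ σ = (D.φ π (π ≫ GalTw.specMap K σ) hw ⟨𝟙 _, Category.id_comp _⟩).1 :=
    (Category.id_comp _).symm.trans h1.symm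
  rw [h2]
  exact (congrArg (· ≫ q) (FFDesc.φ_eq_tr D _ _ hw _)).trans
    ((FFDesc.IsDescended.tr_comp D hq _ _ _).trans (Category.id_comp _))

omit [FiniteDimensional k K] [IsGalois k K] in
theorem cocycle_one {X : Over (Spec (CommRingCat.of k))}
    (a : GpH1.OneCocycle (K ≃ₐ[k] K) (Aut (GalTw.bcK K X))) : a 1 = 1 := GalTw.oneCocycle_one a

/-- The twisted Galois translations of a cocycle. -/
noncomputable def twTrans {X : Over (Spec (CommRingCat.of k))}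
    (a : GpH1.OneCocycle (K ≃ₐ[k] K) (Aut (GalTw.bcK K X))) (σ : K ≃ₐ[k] K) :
    (GalTw.bcK K X).left ⟶ (GalTw.bcK K X).left :=
  GalTw.galMap K σ X ≫ (a σ⁻¹).hom.left

omit [FiniteDimensional k K] [IsGalois k K] in
theorem twTrans_hom {X : Over (Spec (CommRingCat.of k))}
    (a : GpH1.OneCocycle (K ≃ₐ[k] K) (Aut (GalTw.bcK K X))) (σ : K ≃ₐ[k] K) :
    twTrans K a σ ≫ (GalTw.bcK K X).hom = (GalTw.bcK K X).hom ≫ GalTw.specMap K σ := by
  rw [twTrans, Category.assoc, Over.w]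
  exact GalTw.galMap_snd K σ X

omit [FiniteDimensional k K] [IsGalois k K] in
theorem twTrans_one {X : Over (Spec (CommRingCat.of k))}
    (a : GpH1.OneCocycle (K ≃ₐ[k] K) (Aut (GalTw.bcK K X))) : twTrans K a 1 = 𝟙 _ := by
  rw [twTrans, inv_one, cocycle_one, GalTw.galMap_one, Category.id_comp]
  rfl

omit [FiniteDimensional k K] [IsGalois k K] in
theorem twTrans_mul {X : Over (Spec (CommRingCat.of k))}
    (a : GpH1.OneCocycle (K ≃ₐ[k] K) (Aut (GalTw.bcK K X))) (σ τ : K ≃ₐ[k] K) :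
    twTrans K a σ ≫ twTrans K a τ = twTrans K a (σ * τ) := by
  have h := congrArg (fun f : Aut (GalTw.bcK K X) => f.hom.left) (a.2 τ⁻¹ σ⁻¹)
  change (a (τ⁻¹ * σ⁻¹)).hom.left = (GalTw.galMap K τ⁻¹ X ≫ (a σ⁻¹).hom.left ≫ GalTw.galMap K τ⁻¹⁻¹ X) ≫ (a τ⁻¹).hom.left at h
  simp only [twTrans, mul_inv_rev, h, inv_inv, Category.assoc, GalTw.galMap_mul_assoc, mul_inv_cancel_right]

omit [FiniteDimensional k K] [IsGalois k K] in
theorem cocycle_eq_of_twTrans {X Y : Over (Spec (CommRingCat.of k))}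
    (a : GpH1.OneCocycle (K ≃ₐ[k] K) (Aut (GalTw.bcK K X))) (φ : GalTw.bcK K Y ≅ GalTw.bcK K X)
    (h : ∀ σ, φ.inv.left ≫ GalTw.galMap K σ Y = twTrans K a σ ≫ φ.inv.left) (σ : K ≃ₐ[k] K) :
    GalTw.cocycle φ σ = a σ := by
  refine Iso.ext (Over.OverMorphism.ext ?_)
  rw [GalTw.cocycle_apply_hom]
  change (GalTw.galMap K σ X ≫ φ.inv.left ≫ GalTw.galMap K σ⁻¹ Y) ≫ φ.hom.left = _
  rw [h σ⁻¹, twTrans, inv_inv]
  simp only [Category.assoc, GalTw.galMap_mul_assoc, mul_inv_cancel, GalTw.galMap_one, Category.id_comp]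
  have hinv : φ.inv.left ≫ φ.hom.left = 𝟙 _ := congrArg (fun m => m.left) φ.inv_hom_id
  rw [hinv]
  exact Category.comp_id _

omit [FiniteDimensional k K] [IsGalois k K] in
/-- A quotient of `X_K` by the twisted translations is a twist of `X`. -/
theorem isTwist_of_isDescended {X : Over (Spec (CommRingCat.of k))}
    (a : GpH1.OneCocycle (K ≃ₐ[k] K) (Aut (GalTw.bcK K X))) (Y : Over (Spec (CommRingCat.of k)))
    (q : (GalTw.bcK K X).left ⟶ Y.left)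
    (hpb : IsPullback (GalTw.bcK K X).hom q (SGA7.pt (K := k) K).hom Y.hom)
    (hq : ∀ σ, twTrans K a σ ≫ q = q) : GalTw.IsTwist K X a Y := by
  let φ : GalTw.bcK K Y ≅ GalTw.bcK K X :=
    (Over.isoMk hpb.flip.isoPullback hpb.flip.isoPullback_hom_snd).symm
  refine ⟨φ, fun σ => cocycle_eq_of_twTrans K a φ (fun σ => ?_) σ⟩
  have e1 : φ.inv.left ≫ pullback.fst Y.hom (SGA7.pt (K := k) K).hom = q := hpb.flip.isoPullback_hom_fst
  have e2 : φ.inv.left ≫ pullback.snd Y.hom (SGA7.pt (K := k) K).hom = (GalTw.bcK K X).hom :=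
    hpb.flip.isoPullback_hom_snd
  apply pullback.hom_ext
  · simp only [Category.assoc]
    rw [GalTw.galMap_fst, e1, hq]
  · simp only [Category.assoc]
    rw [GalTw.galMap_snd, reassoc_of% e2, e2, twTrans_hom]

set_option backward.isDefEq.respectTransparency.types false in
/-- Affine (over `K`) forms descend. -/
theorem exists_isTwist_of_isAffineHom (X : Over (Spec (CommRingCat.of k))) [IsAffineHom X.hom]
    (a : GpH1.OneCocycle (K ≃ₐ[k] K) (Aut (GalTw.bcK K X))) :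
    ∃ Y : Over (Spec (CommRingCat.of k)), IsAffineHom Y.hom ∧
      (LocallyOfFiniteType X.hom → LocallyOfFiniteType Y.hom) ∧ GalTw.IsTwist K X a Y := by
  let t : Spec (CommRingCat.of K) ⟶ Spec (CommRingCat.of k) := (SGA7.pt (K := k) K).hom
  let D := twistDatum K (GalTw.bcK K X).hom (twTrans K a) (twTrans_hom K a) (twTrans_one K a) (twTrans_mul K a)
  have haff : IsAffineHom (GalTw.bcK K X).hom :=
    MorphismProperty.pullback_snd (P := @IsAffineHom) X.hom t ‹_›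
  have hD' : Mor2.IsQuasiAffine D.obj.hom := ⟨inferInstanceAs (QuasiCompact (GalTw.bcK K X).hom), fun W hW => by
    have : IsAffine ((GalTw.bcK K X).hom ⁻¹ᵁ W : Scheme.{u}) := hW.preimage (GalTw.bcK K X).hom
    change Scheme.IsQuasiAffine ((GalTw.bcK K X).hom ⁻¹ᵁ W : Scheme.{u})
    infer_instance⟩
  have : Surjective t := ⟨fun y => ⟨IsLocalRing.closedPoint K, Subsingleton.elim (α := Spec (CommRingCat.of k)) _ _⟩⟩
  have : IsAffineHom t := inferInstanceAs (IsAffineHom (Spec.map _))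
  obtain ⟨U, q, hq, -, hU⟩ := FFDesc.exists_isDescended D (FFDesc.fpqcCover_of_quasiCompact t) hD'
  refine ⟨U, hU haff, fun hft => ?_,
    isTwist_of_isDescended K a U q hq.isPullback (comp_of_isDescended K _ _ (twTrans_hom K a) (twTrans_one K a) (twTrans_mul K a) U q hq)⟩
  exact MorphismProperty.DescendsAlong.of_isPullback (P := @LocallyOfFiniteType.{u})
    (Q := @Surjective ⊓ @Flat ⊓ @QuasiCompact) hq.isPullback ⟨⟨‹Surjective t›, (inferInstance : Flat t)⟩, (inferInstance : QuasiCompact t)⟩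
    (MorphismProperty.pullback_snd (P := @LocallyOfFiniteType) X.hom t hft)

end Groth.Agent.Lib.GalDescent.TwistDatum
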